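import Cfsg.Agent.H58.Rec.Tools
import Cfsg.Agent.H267.Sp.SpecAlt
import Cfsg.Agent.H841.Phi
import Cfsg.Agent.H843.N11
import Cfsg.Agent.H843.N17
import Cfsg.Agent.H843.N23
import Cfsg.Agent.H843.N29

/-!
# Element orders of `Fi₂₄'` (helper161, for S3484)

* `sc17`, `sc23`, `sc29` : elements of order 17, 23, 29 are self-centralizing;
* `no40`, `no55`, `no70`, `no77`, `no105`, `no121`, `no143` : numbers which are not element orders;
* `conj_five` : one class of elements of order 5; `PhiA` : `A₉` in the centralizer of `z5` of order 5;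
* `exists_rank` : `5²`.
-/

set_option autoImplicit false
set_option maxRecDepth 100000

namespace Cfsg.Agent.H161.Rec.FiTF

open Cfsg Subgroup Equiv
open Cfsg.Agent.H58.Rec
open Cfsg.Agent.R08.FiTwentyFour (L finite_Fi24)
open Cfsg.Agent.LThreeFi24.SNine (y0 R)
open Cfsg.Agent.LThreeFi24.FiveConj (orderOf_y0 exists_conj_five)
open Cfsg.Agent.H841.Five
open Cfsg.Agent.H843.Fi24N (mem_commutator half)
open Cfsg.Spor (Fi24)

theorem finite' : Finite Spor.Fi24' := by
  have : Finite Fi24 := finite_Fi24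
  exact inferInstanceAs (Finite (_root_.commutator Fi24))

theorem card' : Nat.card Spor.Fi24' = 1255205709190661721292800 := Cfsg.Agent.R08.FiTwentyFour.card_commutator

theorem card_cent_sub {G : Type*} [Group G] (N : Subgroup G) (x : N) :
    Nat.card (centralizer ({x} : Set N)) = Nat.card (N ⊓ centralizer ({(x : G)} : Set G) : Subgroup G) := by
  have h : (centralizer ({x} : Set N)).map N.subtype = N ⊓ centralizer ({(x : G)} : Set G) := by
    ext g
    simp only [mem_inf, mem_map, mem_centralizer_singleton_iff, Subgroup.coe_subtype]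
    constructor
    · rintro ⟨y, h1, rfl⟩
      exact ⟨y.2, congrArg Subtype.val h1⟩
    · rintro ⟨h1, h2⟩
      exact ⟨⟨g, h1⟩, Subtype.ext h2, rfl⟩
  rw [← h]
  exact Nat.card_congr ((centralizer ({x} : Set N)).equivMapOfInjective _ N.subtype_injective).toEquiv

theorem cent_zpowers {G : Type*} [Group G] (x : G) :
    centralizer (zpowers x : Set G) = centralizer ({x} : Set G) := by
  rw [zpowers_eq_closure, centralizer_closure]

/-! ### self-centralizing elements -/

/-- from one element to all: the centralizer orders of elements of order `s`, `s² ∤ |G|`, coincide -/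
theorem card_cent_eq {G : Type*} [Group G] [Finite G] {s : ℕ} (hs : s.Prime) (hsq : ¬ s ^ 2 ∣ Nat.card G) {x y : G}
    (hx : orderOf x = s) (hy : orderOf y = s) :
    Nat.card (centralizer ({y} : Set G)) = Nat.card (centralizer ({x} : Set G)) := by
  have hfs : Fact s.Prime := ⟨hs⟩
  have hsyl : ∀ x : G, orderOf x = s → ∃ P : Sylow s G, (P : Subgroup G) = zpowers x := by
    intro x hx
    have hZp : IsPGroup s (zpowers x) := IsPGroup.of_card (n := 1) (by rw [Nat.card_zpowers, hx, pow_one])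
    have hidx : ¬ s ∣ (zpowers x).index := by
      intro h1
      apply hsq
      rw [← Subgroup.card_mul_index (zpowers x), Nat.card_zpowers, hx, pow_two]
      exact Nat.mul_dvd_mul_left s h1
    exact ⟨hZp.toSylow hidx, rfl⟩
  obtain ⟨P, hP⟩ := hsyl x hx
  obtain ⟨Q, hQ⟩ := hsyl y hy
  obtain ⟨g, hg⟩ := MulAction.exists_smul_eq G P Q
  have h1 : (zpowers x).map (MulAut.conj g).toMonoidHom = zpowers y := by
    rw [← hP, ← hQ, ← hg]
    rfl
  rw [← cent_zpowers, ← cent_zpowers, ← h1]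
  have h2 : centralizer (((zpowers x).map (MulAut.conj g).toMonoidHom : Subgroup G) : Set G) =
      (centralizer (zpowers x : Set G)).map (MulAut.conj g).toMonoidHom := by
    ext z
    rw [mem_centralizer_iff]
    constructor
    · intro h
      refine ⟨g⁻¹ * z * g, ?_, ?_⟩
      · rw [SetLike.mem_coe, mem_centralizer_iff]
        intro w hw
        have h3 := h (g * w * g⁻¹) ⟨w, hw, rfl⟩
        calc w * (g⁻¹ * z * g) = g⁻¹ * (g * w * g⁻¹ * z) * g := by group
          _ = g⁻¹ * (z * (g * w * g⁻¹)) * g := by rw [h3]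
          _ = g⁻¹ * z * g * w := by group
      · show g * (g⁻¹ * z * g) * g⁻¹ = z
        group
    · rintro ⟨z, hz, rfl⟩ _ ⟨w, hw, rfl⟩
      show g * w * g⁻¹ * (g * z * g⁻¹) = g * z * g⁻¹ * (g * w * g⁻¹)
      have h3 := mem_centralizer_iff.1 hz w hw
      calc g * w * g⁻¹ * (g * z * g⁻¹) = g * (w * z) * g⁻¹ := by group
        _ = g * (z * w) * g⁻¹ := by rw [h3]
        _ = _ := by group
  rw [h2]
  exact (Nat.card_congr ((centralizer (zpowers x : Set G)).equivMapOfInjective _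
    (MulAut.conj g).injective).toEquiv).symm

theorem cent29 : ∃ x : Spor.Fi24', orderOf x = 29 ∧ Nat.card (centralizer ({x} : Set Spor.Fi24')) = 29 := by
  have hfin : Finite Fi24 := finite_Fi24
  have hord := Cfsg.Agent.H843.D29.order
  have hx := mem_commutator (x := Cfsg.Agent.H843.D29.D.x) (by rw [hord]; decide)
  refine ⟨⟨_, hx⟩, by rw [Subgroup.orderOf_mk, hord], ?_⟩
  rw [card_cent_sub]
  have h1 := Cfsg.Agent.H843.D29.main.2
  rw [cent_zpowers] at h1
  refine Nat.dvd_antisymm ?_ ?_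
  · rw [← h1]
    exact card_dvd_of_le inf_le_right
  · have hle : zpowers Cfsg.Agent.H843.D29.D.x ≤
        (_root_.commutator Spor.Fi24 ⊓ centralizer ({Cfsg.Agent.H843.D29.D.x} : Set Spor.Fi24)) :=
      le_inf (zpowers_le.2 hx) (zpowers_le.2 (mem_centralizer_singleton_iff.2 rfl))
    have h2 := card_dvd_of_le hle
    rwa [Nat.card_zpowers, hord] at h2

theorem cent17 : ∃ x : Spor.Fi24', orderOf x = 17 ∧ Nat.card (centralizer ({x} : Set Spor.Fi24')) = 17 := by
  have hfin : Finite Fi24 := finite_Fi24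
  have hord := Cfsg.Agent.H843.D17.order
  have hx := mem_commutator (x := Cfsg.Agent.H843.D17.D.x) (by rw [hord]; decide)
  refine ⟨⟨_, hx⟩, by rw [Subgroup.orderOf_mk, hord], ?_⟩
  rw [card_cent_sub]
  have h1 := Cfsg.Agent.H843.D17.main.2
  obtain ⟨l, hmem⟩ : ∃ l, l ∈ L ∩
      (Subgroup.centralizer (Subgroup.zpowers Cfsg.Agent.H843.D17.D.x : Set Spor.Fi24) : Set Spor.Fi24) := by
    rw [Cfsg.Agent.H843.D17.inter]; exact ⟨_, rfl⟩
  have h2 := half hmem.2 hmem.1
  rw [h1, cent_zpowers] at h2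
  change Nat.card (_root_.commutator Spor.Fi24 ⊓ centralizer ({Cfsg.Agent.H843.D17.D.x} : Set Spor.Fi24) :
    Subgroup Spor.Fi24) = 17
  omega

theorem cent23 : ∃ x : Spor.Fi24', orderOf x = 23 ∧ Nat.card (centralizer ({x} : Set Spor.Fi24')) = 23 := by
  have hfin : Finite Fi24 := finite_Fi24
  have hord := Cfsg.Agent.H843.D23.order
  have hx := mem_commutator (x := Cfsg.Agent.H843.D23.D.x) (by rw [hord]; decide)
  refine ⟨⟨_, hx⟩, by rw [Subgroup.orderOf_mk, hord], ?_⟩
  rw [card_cent_sub]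
  have h1 := Cfsg.Agent.H843.D23.main.2
  obtain ⟨l, hmem⟩ : ∃ l, l ∈ L ∩
      (Subgroup.centralizer (Subgroup.zpowers Cfsg.Agent.H843.D23.D.x : Set Spor.Fi24) : Set Spor.Fi24) := by
    rw [Cfsg.Agent.H843.D23.inter]; exact ⟨_, rfl⟩
  have h2 := half hmem.2 hmem.1
  rw [h1, cent_zpowers] at h2
  change Nat.card (_root_.commutator Spor.Fi24 ⊓ centralizer ({Cfsg.Agent.H843.D23.D.x} : Set Spor.Fi24) :
    Subgroup Spor.Fi24) = 23
  omega

theorem cent11 : ∃ x : Spor.Fi24', orderOf x = 11 ∧ Nat.card (centralizer ({x} : Set Spor.Fi24')) ∣ 2640 := by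
  have hfin : Finite Fi24 := finite_Fi24
  have hord := Cfsg.Agent.H843.D11.order
  have hx := mem_commutator (x := Cfsg.Agent.H843.D11.D.x) (by rw [hord]; decide)
  refine ⟨⟨_, hx⟩, by rw [Subgroup.orderOf_mk, hord], ?_⟩
  rw [card_cent_sub, ← Cfsg.Agent.H843.D11.main, ← cent_zpowers]
  exact card_dvd_of_le (inf_le_right.trans (centralizer_le_normalizer _))

theorem sc29 : H537.Cop.SC 29 Spor.Fi24' := by
  have := finite'
  intro y hy
  obtain ⟨x, hx, hc⟩ := cent29
  rw [card_cent_eq (by norm_num) (by rw [card']; norm_num) hx hy, hc]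

theorem sc23 : H537.Cop.SC 23 Spor.Fi24' := by
  have := finite'
  intro y hy
  obtain ⟨x, hx, hc⟩ := cent23
  rw [card_cent_eq (by norm_num) (by rw [card']; norm_num) hx hy, hc]

theorem sc17 : H537.Cop.SC 17 Spor.Fi24' := by
  have := finite'
  intro y hy
  obtain ⟨x, hx, hc⟩ := cent17
  rw [card_cent_eq (by norm_num) (by rw [card']; norm_num) hx hy, hc]

/-- no element of order `11 m` if `11 m ∤ 2640` -/
theorem no_eleven {m : ℕ} (hm0 : 0 < m) (hm : ¬ 11 * m ∣ 2640) : ¬ HasOrd Spor.Fi24' (11 * m) := by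
  have := finite'
  rintro ⟨g, hg⟩
  obtain ⟨x, hx, hc⟩ := cent11
  have h1 : orderOf (g ^ m) = 11 := by
    rw [orderOf_pow_of_dvd hm0.ne' (by rw [hg]; exact dvd_mul_left m 11), hg]
    exact Nat.mul_div_cancel _ hm0
  have h2 := card_cent_eq (by norm_num : Nat.Prime 11) (by rw [card']; norm_num) hx h1
  have h3 : orderOf (⟨g, mem_centralizer_singleton_iff.2 ((Commute.refl g).pow_right m).eq⟩ :
      centralizer ({g ^ m} : Set Spor.Fi24')) ∣ Nat.card (centralizer ({g ^ m} : Set Spor.Fi24')) :=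
    orderOf_dvd_natCard _
  rw [Subgroup.orderOf_mk, h2, hg] at h3
  exact hm (h3.trans hc)

theorem no77 : ¬ HasOrd Spor.Fi24' (11 * 7) := no_eleven (by norm_num) (by norm_num)
theorem no121 : ¬ HasOrd Spor.Fi24' (11 * 11) := no_eleven (by norm_num) (by norm_num)
theorem no143 : ¬ HasOrd Spor.Fi24' (11 * 13) := no_eleven (by norm_num) (by norm_num)

/-! ### elements of order 5 -/

open Cfsg.Agent.Fischer.Fi24Final (sgn)
open Cfsg.Agent.R08.FiTwentyFour (mem_commutator_iff)

/-- the sign -/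
theorem sgn_Phi (σ : Perm (Fin 9)) : sgn (Phi σ) = Perm.sign σ := by
  have h1 : (sgn.comp Phi : Perm (Fin 9) →* ℤˣ) = Perm.sign := by
    apply Perm.eq_sign_of_surjective_hom
    intro u
    rcases Int.units_eq_one_or u with rfl | rfl
    · exact ⟨1, map_one _⟩
    · refine ⟨swap 0 1, ?_⟩
      show sgn (Phi (swap 0 1)) = -1
      exact Cfsg.Agent.R08.FiTwentyFour.sgn_L (Phi_swap_mem_L (by decide))
  exact congrArg (fun f : Perm (Fin 9) →* ℤˣ => f σ) h1

theorem Phi_mem_commutator {σ : Perm (Fin 9)} : Phi σ ∈ _root_.commutator Fi24 ↔ Perm.sign σ = 1 := by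
  rw [mem_commutator_iff, sgn_Phi]

theorem y0_mem : y0 ∈ _root_.commutator Fi24 := mem_commutator (by rw [orderOf_y0]; decide)

/-- the element of order 5 -/
noncomputable def z5 : Spor.Fi24' := ⟨y0, y0_mem⟩

theorem orderOf_z5 : orderOf z5 = 5 := by rw [z5, Subgroup.orderOf_mk, orderOf_y0]

/-- the alternating group `A₉` -/
noncomputable def PhiA : alternatingGroup (Fin 9) →* Spor.Fi24' :=
  (Phi.comp (alternatingGroup (Fin 9)).subtype).codRestrict _ (fun σ => Phi_mem_commutator.2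
    (Perm.mem_alternatingGroup.1 σ.2))

theorem coe_PhiA (σ : alternatingGroup (Fin 9)) : ((PhiA σ : Spor.Fi24') : Fi24) = Phi (σ : Perm (Fin 9)) := rfl

theorem PhiA_injective : Function.Injective PhiA := by
  intro σ τ h
  have h1 := congrArg (fun x : Spor.Fi24' => (x : Fi24)) h
  simp only [coe_PhiA] at h1
  exact Subtype.ext (Phi_injective h1)

theorem PhiA_comm (σ : alternatingGroup (Fin 9)) : Commute (PhiA σ) z5 :=
  Subtype.ext (Phi_comm_y0 (σ : Perm (Fin 9))).eq

/-- one class -/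
theorem conj_z5 {x : Spor.Fi24'} (hx : orderOf x = 5) : ∃ g : Spor.Fi24', g * x * g⁻¹ = z5 := by
  have h1 : orderOf (x : Fi24) = 5 := by rw [Subgroup.orderOf_coe, hx]
  obtain ⟨g, hg⟩ := exists_conj_five h1
  have hne : (0 : Fin 9) ≠ 1 := by decide
  by_cases hgc : g ∈ _root_.commutator Fi24
  · exact ⟨⟨g, hgc⟩, Subtype.ext hg⟩
  · have h2 : Phi (swap 0 1) * g ∈ _root_.commutator Fi24 := by
      rw [mem_commutator_iff] at hgc ⊢
      rw [map_mul, sgn_Phi, Perm.sign_swap hne]
      rcases Int.units_eq_one_or (sgn g) with h3 | h3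
      · exact absurd h3 hgc
      · rw [h3]; rfl
    refine ⟨⟨_, h2⟩, Subtype.ext ?_⟩
    show Phi (swap 0 1) * g * x * (Phi (swap 0 1) * g)⁻¹ = y0
    have h3 := (Phi_comm_y0 (swap 0 1)).eq
    calc Phi (swap 0 1) * g * x * (Phi (swap 0 1) * g)⁻¹ = Phi (swap 0 1) * (g * x * g⁻¹) * (Phi (swap 0 1))⁻¹ := by group
      _ = Phi (swap 0 1) * y0 * (Phi (swap 0 1))⁻¹ := by rw [hg]
      _ = y0 := by rw [h3, mul_inv_cancel_right]

/-- element orders divisible by 5 come from `5 × A₉` -/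
theorem no_five {m : ℕ} (hm0 : 0 < m) (hm : ¬ HasOrd (alternatingGroup (Fin 9)) m) :
    ¬ HasOrd Spor.Fi24' (5 * m) := by
  have := finite'
  rintro ⟨x, hx⟩
  have h1 : orderOf (x ^ m) = 5 := by
    rw [orderOf_pow_of_dvd hm0.ne' (by rw [hx]; exact dvd_mul_left m 5), hx]
    exact Nat.mul_div_cancel _ hm0
  obtain ⟨g, hg⟩ := conj_z5 h1
  set n := g * x * g⁻¹ with hn
  have hno : orderOf n = 5 * m := by
    have h2 : n = MulAut.conj g x := rfl
    rw [h2, MulEquiv.orderOf_eq, hx]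
  have hnm : n ^ m = z5 := by rw [hn, conj_pow, hg]
  have hcomm : (n : Fi24) * y0 = y0 * n := by
    have h2 : Commute n z5 := by rw [← hnm]; exact (Commute.refl n).pow_right m
    exact congrArg Subtype.val h2.eq
  obtain ⟨i, σ, hi, -, hσ⟩ := exists_of_comm hcomm
  have h5 : (n : Fi24) ^ 5 = Phi (σ ^ 5) := by
    have h3 : Commute (y0 ^ i) (Phi σ) := ((Phi_comm_y0 σ).symm).pow_left i
    rw [hσ, h3.mul_pow, ← pow_mul, mul_comm i 5, pow_mul, ← orderOf_y0, pow_orderOf_eq_one, one_pow, one_mul, map_pow]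
  have h6 : Phi (σ ^ 5) ∈ _root_.commutator Fi24 := by
    rw [← h5]
    exact pow_mem n.2 5
  have h7 : orderOf ((n : Fi24) ^ 5) = m := by
    rw [orderOf_pow_of_dvd (by norm_num) (by rw [Subgroup.orderOf_coe, hno]; exact dvd_mul_right 5 m), Subgroup.orderOf_coe,
      hno]
    exact Nat.mul_div_cancel_left _ (by norm_num)
  apply hm
  refine ⟨⟨σ ^ 5, Perm.mem_alternatingGroup.2 (Phi_mem_commutator.1 h6)⟩, ?_⟩
  rw [Subgroup.orderOf_mk, ← h7, h5]
  exact (orderOf_injective Phi Phi_injective _).symm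

open Cfsg.Agent.H357.Sp Cfsg.Agent.H267.Sp.SpecAlt

theorem not_alt {m : ℕ} (hm : 0 < m) (h : ¬ W m + (if Even m then 2 else 0) ≤ 9) :
    ¬ HasOrd (alternatingGroup (Fin 9)) m := by
  intro h1
  exact h ((Spec.iff (spec_alt 9) hm).1 h1)

theorem no40 : ¬ HasOrd Spor.Fi24' (5 * (4 * 2)) := by
  refine no_five (by norm_num) (not_alt (by norm_num) ?_)
  have h1 : W (4 * 2) = 8 := W_pow (p := 2) (j := 3) Nat.prime_two (by norm_num)
  rw [h1, if_pos (by decide)]
  norm_num

theorem W7 : W 7 = 7 := by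
  have := W_pow (p := 7) (j := 1) (by norm_num) (by norm_num)
  rwa [pow_one] at this

theorem W2 : W 2 = 2 := by
  have := W_pow (p := 2) (j := 1) (by norm_num) (by norm_num)
  rwa [pow_one] at this

theorem W3 : W 3 = 3 := by
  have := W_pow (p := 3) (j := 1) (by norm_num) (by norm_num)
  rwa [pow_one] at this

theorem no70 : ¬ HasOrd Spor.Fi24' (5 * (7 * 2)) := by
  refine no_five (by norm_num) (not_alt (by norm_num) ?_)
  rw [W_mul (by norm_num) (by norm_num) (by norm_num), W7, W2, if_pos (by decide)]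
  norm_num

theorem no105 : ¬ HasOrd Spor.Fi24' (5 * (7 * 3)) := by
  refine no_five (by norm_num) (not_alt (by norm_num) ?_)
  rw [W_mul (by norm_num) (by norm_num) (by norm_num), W7, W3, if_neg (by decide)]
  norm_num

theorem no55 : ¬ HasOrd Spor.Fi24' (11 * 5) := by
  refine no_five (m := 11) (by norm_num) (not_alt (by norm_num) ?_)
  have := W_pow (p := 11) (j := 1) (by norm_num) (by norm_num)
  rw [pow_one] at this
  rw [this, if_neg (by decide)]
  norm_num

/-- a noncyclic group of order 25 -/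
theorem exists_rank : ∃ A : Subgroup Spor.Fi24', (∀ a ∈ A, a ^ 5 = 1) ∧ (∀ a ∈ A, ∀ b ∈ A, a * b = b * a) ∧
    ¬ IsCyclic A := by
  -- `⟨z5⟩ ⊔ ⟨5-cycle⟩`
  obtain ⟨c, hc⟩ : ∃ c : alternatingGroup (Fin 9), orderOf c = 5 := by
    have hW : W 5 = 5 := by
      have := W_pow (p := 5) (j := 1) (by norm_num) (by norm_num)
      rwa [pow_one] at this
    exact (Spec.iff (spec_alt 9) (k := 5) (by norm_num)).2 (by rw [hW, if_neg (by decide)]; norm_num)
  have hc5 : c ^ 5 = 1 := by rw [← hc, pow_orderOf_eq_one]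
  have hz5 : z5 ^ 5 = 1 := by rw [← orderOf_z5, pow_orderOf_eq_one]
  have hd5 : (PhiA c) ^ 5 = 1 := by rw [← map_pow, hc5, map_one]
  have hcomm : Commute z5 (PhiA c) := (PhiA_comm c).symm
  have hmem : ∀ x, x ∈ zpowers z5 ⊔ zpowers (PhiA c) ↔ ∃ i j : ℤ, z5 ^ i * PhiA c ^ j = x := by
    intro x
    rw [← SetLike.mem_coe, Subgroup.coe_mul_of_left_le_normalizer_right _ _ (by
      rw [zpowers_le, mem_normalizer_iff]
      intro w
      have key : ∀ j : ℤ, z5 * PhiA c ^ j * z5⁻¹ = PhiA c ^ j := fun j => by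
        rw [(hcomm.zpow_right j).eq, mul_inv_cancel_right]
      constructor
      · rintro ⟨j, rfl⟩
        exact ⟨j, (key j).symm⟩
      · rintro ⟨j, hj⟩
        refine ⟨j, ?_⟩
        have hj' : PhiA c ^ j = z5 * w * z5⁻¹ := hj
        have h2 : z5 * PhiA c ^ j * z5⁻¹ = z5 * w * z5⁻¹ := by rw [key j, hj']
        exact mul_left_cancel (mul_right_cancel h2)), Set.mem_mul]
    constructor
    · rintro ⟨_, ⟨i, rfl⟩, _, ⟨j, rfl⟩, h⟩
      exact ⟨i, j, h⟩
    · rintro ⟨i, j, h⟩
      exact ⟨_, ⟨i, rfl⟩, _, ⟨j, rfl⟩, h⟩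
  have hpow5 : ∀ x ∈ zpowers z5 ⊔ zpowers (PhiA c), x ^ 5 = 1 := by
    intro x hx
    obtain ⟨i, j, rfl⟩ := (hmem x).1 hx
    rw [((hcomm.zpow_left i).zpow_right j).mul_pow, ← zpow_natCast, ← zpow_mul, mul_comm, zpow_mul, zpow_natCast, hz5,
      one_zpow, one_mul, ← zpow_natCast, ← zpow_mul, mul_comm, zpow_mul, zpow_natCast, hd5, one_zpow]
  refine ⟨zpowers z5 ⊔ zpowers (PhiA c), hpow5, ?_, ?_⟩
  · intro a ha b hb
    obtain ⟨i, j, rfl⟩ := (hmem a).1 ha
    obtain ⟨k, l, rfl⟩ := (hmem b).1 hb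
    have h1 : Commute (z5 ^ i * PhiA c ^ j) (z5 ^ k * PhiA c ^ l) := by
      refine Commute.mul_left (Commute.mul_right ?_ ?_) (Commute.mul_right ?_ ?_)
      · exact ((Commute.refl z5).zpow_left i).zpow_right k
      · exact (hcomm.zpow_left i).zpow_right l
      · exact (hcomm.symm.zpow_left j).zpow_right k
      · exact ((Commute.refl (PhiA c)).zpow_left j).zpow_right l
    exact h1.eq
  · intro hcyc
    have := finite'
    -- a cyclic group of exponent 5 has order 5
    have h1 : Nat.card ↥(zpowers z5 ⊔ zpowers (PhiA c)) ∣ 5 := by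
      obtain ⟨⟨g, hg⟩, hgen⟩ := hcyc.exists_generator
      rw [← orderOf_eq_card_of_forall_mem_zpowers hgen, Subgroup.orderOf_mk]
      exact orderOf_dvd_of_pow_eq_one (hpow5 g hg)
    have h2 : zpowers z5 = zpowers z5 ⊔ zpowers (PhiA c) := by
      apply eq_of_le_of_card_ge le_sup_left
      rw [Nat.card_zpowers, orderOf_z5]
      exact Nat.le_of_dvd (by norm_num) h1
    have h3 : PhiA c ∈ zpowers z5 := by
      rw [h2]
      exact mem_sup_right (mem_zpowers _)
    -- `A₉` meets `⟨z5⟩` trivially: otherwise `c` is central in `A₉`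
    have h4 : ∀ σ : alternatingGroup (Fin 9), Commute σ c := by
      intro σ
      obtain ⟨i, hi⟩ := mem_zpowers_iff.1 h3
      have h5 : Commute (PhiA σ) (PhiA c) := by
        rw [← hi]
        exact (PhiA_comm σ).zpow_right i
      show σ * c = c * σ
      apply PhiA_injective
      rw [map_mul, map_mul]
      exact h5.eq
    have h5 : c ∈ center (alternatingGroup (Fin 9)) := mem_center_iff.2 fun g => (h4 g).eq
    rw [alternatingGroup.center_eq_bot (by simp), mem_bot] at h5
    rw [h5, orderOf_one] at hc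
    norm_num at hc

end Cfsg.Agent.H161.Rec.FiTF
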